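import Mathlib.AlgebraicGeometry.Morphisms.Smooth
import Mathlib.AlgebraicGeometry.Stalk

/-!
# Affine charts adapted to a section, and kernels of maps of stalks
-/

set_option autoImplicit false
universe u
open CategoryTheory CategoryTheory.Limits AlgebraicGeometry TopologicalSpace

namespace K582.Charts

/-- The ring map `R → Γ(Q, ⊤)` given by a morphism `Q ⟶ Spec R`. -/
noncomputable def glob {Q : Scheme.{u}} {R : CommRingCat.{u}} (g : Q ⟶ Spec R) : R ⟶ Γ(Q, ⊤) :=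
  (Scheme.ΓSpecIso R).inv ≫ g.appTop

theorem glob_comp {Q : Scheme.{u}} {R S : CommRingCat.{u}} (g : Q ⟶ Spec S) (φ : R ⟶ S) :
    glob (g ≫ Spec.map φ) = φ ≫ glob g := by
  unfold glob
  rw [Scheme.Hom.comp_appTop, Scheme.ΓSpecIso_inv_naturality_assoc]

theorem glob_injective {Q : Scheme.{u}} {R : CommRingCat.{u}} {g g' : Q ⟶ Spec R}
    (h : glob g = glob g') : g = g' := by
  apply ext_of_isAffine
  unfold glob at h
  exact (cancel_epi _).mp h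

/-- If `s` is a section of `π : P ⟶ Y`, then there are arbitrarily small affine neighbourhoods
`U₀` of `s y` and `V₁` of `y` with `s⁻¹ U₀ = V₁` and `U₀ ≤ π⁻¹ V₁`. -/
theorem exists_charts {Y P : Scheme.{u}} (π : P ⟶ Y) (s : Y ⟶ P) (sec : s ≫ π = 𝟙 Y) (y : Y)
    (V : Y.Opens) (hy : y ∈ V) :
    ∃ (U₀ : P.Opens) (V₁ : Y.Opens), IsAffineOpen U₀ ∧ IsAffineOpen V₁ ∧ s y ∈ U₀ ∧ y ∈ V₁ ∧
      s ⁻¹ᵁ U₀ = V₁ ∧ U₀ ≤ π ⁻¹ᵁ V₁ ∧ V₁ ≤ V := by
  have hsec : ∀ z : Y, π (s z) = z := fun z => by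
    have := congrArg (fun g : Y ⟶ Y => g z) sec
    exact this
  obtain ⟨_, ⟨V₀, hV₀, rfl⟩, hyV₀, hV₀V⟩ :=
    Y.isBasis_affineOpens.exists_subset_of_mem_open (show y ∈ (V : Set Y) from hy) V.2
  obtain ⟨_, ⟨U₁, hU₁, rfl⟩, hU₁y, hU₁V⟩ :=
    P.isBasis_affineOpens.exists_subset_of_mem_open
      (show s y ∈ ((π ⁻¹ᵁ V₀ : P.Opens) : Set P) from by
        change π (s y) ∈ V₀
        rw [hsec]; exact hyV₀) (π ⁻¹ᵁ V₀).2
  obtain ⟨r, hr, hyr⟩ := hV₀.exists_basicOpen_le (V := s ⁻¹ᵁ U₁ ⊓ V₀) ⟨y, ⟨hU₁y, hyV₀⟩⟩ hyV₀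
  refine ⟨P.basicOpen ((π.appLE V₀ U₁ hU₁V).hom r), Y.basicOpen r, hU₁.basicOpen _,
    hV₀.basicOpen _, ?_, hyr, ?_, ?_, ?_⟩
  · rw [Scheme.basicOpen_appLE]
    refine ⟨hU₁y, ?_⟩
    change π (s y) ∈ Y.basicOpen r
    rw [hsec]
    exact hyr
  · ext z
    rw [Scheme.basicOpen_appLE]
    constructor
    · rintro ⟨-, h⟩
      change π (s z) ∈ Y.basicOpen r at h
      rw [hsec] at h
      exact h
    · intro h
      refine ⟨(hr h).1, ?_⟩
      change π (s z) ∈ Y.basicOpen r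
      rw [hsec]
      exact h
  · rw [Scheme.basicOpen_appLE]
    exact inf_le_right
  · exact (Y.basicOpen_le r).trans hV₀V

variable {Y P : Scheme.{u}} (s : Y ⟶ P)

/-- `germ` and `appLE`. -/
theorem germ_stalkMap_appLE (f : Y ⟶ P) (y : Y) (U : P.Opens) (V : Y.Opens) (h : V ≤ f ⁻¹ᵁ U)
    (hy : y ∈ V) (x : Γ(P, U)) :
    (f.stalkMap y).hom (P.presheaf.germ U (f y) (h hy) x) =
      Y.presheaf.germ V y hy ((f.appLE U V h).hom x) := by
  have := Scheme.Hom.germ_stalkMap_apply f U y (h hy) x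
  rw [this, Scheme.Hom.appLE]
  simp only [CommRingCat.hom_comp, RingHom.comp_apply]
  exact (TopCat.Presheaf.germ_res_apply _ _ _ _ _).symm

/-- The kernel of the stalk map of a section is generated by the kernel on an adapted chart. -/
theorem ker_stalkMap_le (π : P ⟶ Y) (sec : s ≫ π = 𝟙 Y) (y : Y) (U₀ : P.Opens) (V₁ : Y.Opens)
    (hU₀ : IsAffineOpen U₀) (hV₁ : IsAffineOpen V₁) (hy : y ∈ V₁) (hsU : V₁ ≤ s ⁻¹ᵁ U₀)
    (hUV : U₀ ≤ π ⁻¹ᵁ V₁) :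
    RingHom.ker (s.stalkMap y).hom ≤
      (RingHom.ker (s.appLE U₀ V₁ hsU).hom).map (P.presheaf.germ U₀ (s y) (hsU hy)).hom := by
  intro x hx
  have hcomp : ∀ r : Γ(Y, V₁), (s.appLE U₀ V₁ hsU).hom ((π.appLE V₁ U₀ hUV).hom r) = r := by
    intro r
    have h1 := Scheme.Hom.appLE_comp_appLE s π V₁ U₀ V₁ hUV hsU
    have h2 : ∀ (g : Y ⟶ Y) (hg : g = 𝟙 Y) (e), g.appLE V₁ V₁ e = 𝟙 _ := by
      rintro g rfl e
      simp only [Scheme.Hom.appLE, Scheme.Hom.id_app]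
      exact (Category.id_comp (Y.presheaf.map (homOfLE e).op)).trans (Y.presheaf.map_id _)
    rw [h2 _ sec] at h1
    exact DFunLike.congr_fun (congrArg CommRingCat.Hom.hom h1) r
  let _ : Algebra Γ(P, U₀) (P.presheaf.stalk (s y)) := (P.presheaf.germ U₀ (s y) (hsU hy)).hom.toAlgebra
  let _ : Algebra Γ(Y, V₁) (Y.presheaf.stalk y) := (Y.presheaf.germ V₁ y hy).hom.toAlgebra
  have hlocP : IsLocalization.AtPrime (P.presheaf.stalk (s y))
      (hU₀.primeIdealOf ⟨s y, hsU hy⟩).asIdeal := hU₀.isLocalization_stalk ⟨s y, hsU hy⟩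
  have hlocY : IsLocalization.AtPrime (Y.presheaf.stalk y)
      (hV₁.primeIdealOf ⟨y, hy⟩).asIdeal := hV₁.isLocalization_stalk ⟨y, hy⟩
  obtain ⟨⟨d, t⟩, hdt⟩ := IsLocalization.surj (hU₀.primeIdealOf ⟨s y, hsU hy⟩).asIdeal.primeCompl x
  have hunit : IsUnit (algebraMap Γ(P, U₀) (P.presheaf.stalk (s y)) t) := IsLocalization.map_units _ t
  have h3 : (s.stalkMap y).hom (algebraMap Γ(P, U₀) (P.presheaf.stalk (s y)) d) = 0 := by
    rw [← hdt, map_mul, (RingHom.mem_ker).mp hx, zero_mul]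
  have h4 : algebraMap Γ(Y, V₁) (Y.presheaf.stalk y) ((s.appLE U₀ V₁ hsU).hom d) =
      algebraMap Γ(Y, V₁) (Y.presheaf.stalk y) 0 := by
    rw [map_zero, ← h3]
    exact (germ_stalkMap_appLE s y U₀ V₁ hsU hy d).symm
  rw [IsLocalization.eq_iff_exists (hV₁.primeIdealOf ⟨y, hy⟩).asIdeal.primeCompl] at h4
  obtain ⟨r, hr⟩ := h4
  rw [mul_zero] at hr
  have h5 : (π.appLE V₁ U₀ hUV).hom r * d ∈ RingHom.ker (s.appLE U₀ V₁ hsU).hom := by
    rw [RingHom.mem_ker, map_mul, hcomp]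
    exact hr
  have h6 : IsUnit (algebraMap Γ(P, U₀) (P.presheaf.stalk (s y)) ((π.appLE V₁ U₀ hUV).hom r)) := by
    have hl : IsLocalHom (s.stalkMap y).hom := inferInstance
    refine isUnit_of_map_unit (s.stalkMap y).hom _ ?_
    have h7 := germ_stalkMap_appLE s y U₀ V₁ hsU hy ((π.appLE V₁ U₀ hUV).hom r)
    change IsUnit ((s.stalkMap y).hom (P.presheaf.germ U₀ (s y) (hsU hy) _))
    rw [h7, hcomp]
    exact IsLocalization.map_units (Y.presheaf.stalk y) r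
  have h8 := Ideal.mem_map_of_mem (P.presheaf.germ U₀ (s y) (hsU hy)).hom h5
  rw [map_mul] at h8
  have h9 : x * (algebraMap Γ(P, U₀) (P.presheaf.stalk (s y)) t *
      algebraMap Γ(P, U₀) (P.presheaf.stalk (s y)) ((π.appLE V₁ U₀ hUV).hom r)) ∈
      (RingHom.ker (s.appLE U₀ V₁ hsU).hom).map (P.presheaf.germ U₀ (s y) (hsU hy)).hom := by
    rw [← mul_assoc, hdt, mul_comm]
    exact h8
  exact (Ideal.mul_unit_mem_iff_mem _ (hunit.mul h6)).mp h9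

end K582.Charts
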