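import Mathlib.RingTheory.FiniteType
import Mathlib.RingTheory.Ideal.Maps

/-!
# A finite type algebra encoding a map which is prescribed modulo an ideal

`D → C` (think: local ring to completion), `ζ : A → C` a ring map out of a finite type `k`-algebra,
`A → E ← D` with `D → E` surjective with kernel `J` such that `ζ x - d ∈ J C` whenever `x` and `d` have
the same image in `E`.  Then `ζ` factors through a finitely generated `D`-subalgebra `B` of `C` for
which the same congruence holds modulo `J B`.
-/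

set_option autoImplicit false
universe u

namespace K582.LocAlg

variable {D C : Type*} [CommRing D] [CommRing C] [Algebra D C]

theorem exists_finset (J : Ideal D) (z : C) (hz : z ∈ J.map (algebraMap D C)) :
    ∃ t : Finset C, ∀ B : Subalgebra D C, (↑t ⊆ (B : Set C)) →
      ∃ b : B, (b : C) = z ∧ b ∈ J.map (algebraMap D B) := by
  classical
  refine Submodule.span_induction (p := fun z _ => ∃ t : Finset C, ∀ B : Subalgebra D C,
    (↑t ⊆ (B : Set C)) → ∃ b : B, (b : C) = z ∧ b ∈ J.map (algebraMap D B)) ?_ ?_ ?_ ?_ hz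
  · rintro _ ⟨j, hj, rfl⟩
    exact ⟨∅, fun B _ => ⟨algebraMap D B j, rfl, Ideal.mem_map_of_mem _ hj⟩⟩
  · exact ⟨∅, fun B _ => ⟨0, rfl, zero_mem _⟩⟩
  · rintro x y - - ⟨t, ht⟩ ⟨t', ht'⟩
    refine ⟨t ∪ t', fun B hB => ?_⟩
    rw [Finset.coe_union, Set.union_subset_iff] at hB
    obtain ⟨b, hb, hb'⟩ := ht B hB.1
    obtain ⟨c, hc, hc'⟩ := ht' B hB.2
    exact ⟨b + c, by rw [← hb, ← hc]; rfl, add_mem hb' hc'⟩
  · rintro a x - ⟨t, ht⟩
    refine ⟨insert a t, fun B hB => ?_⟩
    rw [Finset.coe_insert, Set.insert_subset_iff] at hB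
    obtain ⟨b, hb, hb'⟩ := ht B hB.2
    exact ⟨⟨a, hB.1⟩ * b, by rw [← hb]; rfl, Ideal.mul_mem_left _ _ hb'⟩

theorem exists_subalgebra {k A E : Type*} [CommRing k] [CommRing A] [CommRing E] [Algebra k A]
    [Algebra.FiniteType k A] (ζ : A →+* C) (σf : A →+* E) (σs : D →+* E)
    (hs : Function.Surjective σs) (κ : k →+* D)
    (hκ : ∀ c, σs (κ c) = σf (algebraMap k A c))
    (hconst : ∀ c, ζ (algebraMap k A c) = algebraMap D C (κ c))
    (hcompat : ∀ x d, σf x = σs d →
      ζ x - algebraMap D C d ∈ (RingHom.ker σs).map (algebraMap D C)) :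
    ∃ B : Subalgebra D C, B.FG ∧ ∃ h : A →+* B, (∀ x, (h x : C) = ζ x) ∧
      ∀ x d, σf x = σs d → h x - algebraMap D B d ∈ (RingHom.ker σs).map (algebraMap D B) := by
  classical
  obtain ⟨G, hG⟩ := (inferInstance : Algebra.FiniteType k A).out
  have h1 : ∀ x : A, ∃ (d : D) (t : Finset C), σf x = σs d ∧ ∀ B : Subalgebra D C,
      (↑t ⊆ (B : Set C)) → ∃ b : B, (b : C) = ζ x - algebraMap D C d ∧
        b ∈ (RingHom.ker σs).map (algebraMap D B) := by
    intro x
    obtain ⟨d, hd⟩ := hs (σf x)
    obtain ⟨t, ht⟩ := exists_finset (RingHom.ker σs) _ (hcompat x d hd.symm)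
    exact ⟨d, t, hd.symm, ht⟩
  choose d t hdt ht using h1
  let T : Finset C := G.biUnion t
  let B : Subalgebra D C := Algebra.adjoin D (T : Set C)
  have hTB : (↑T : Set C) ⊆ (B : Set C) := Algebra.subset_adjoin
  -- the key induction
  have key : ∀ x : A, ∃ b : B, (b : C) = ζ x ∧
      ∀ e, σf x = σs e → b - algebraMap D B e ∈ (RingHom.ker σs).map (algebraMap D B) := by
    intro x
    have hx : x ∈ Algebra.adjoin k (G : Set A) := by rw [hG]; trivial
    refine Algebra.adjoin_induction (p := fun x _ => ∃ b : B, (b : C) = ζ x ∧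
      ∀ e, σf x = σs e → b - algebraMap D B e ∈ (RingHom.ker σs).map (algebraMap D B))
      ?_ ?_ ?_ ?_ hx
    · intro x hxG
      obtain ⟨b, hb, hb'⟩ := ht x B (fun c hc => hTB (by
        simp only [T, Finset.coe_biUnion, Set.mem_iUnion]
        exact ⟨x, hxG, hc⟩))
      refine ⟨b + algebraMap D B (d x), ?_, fun e he => ?_⟩
      · change (b : C) + algebraMap D C (d x) = _
        rw [hb, sub_add_cancel]
      · have h2 : d x - e ∈ RingHom.ker σs := by
          rw [RingHom.mem_ker, map_sub, ← hdt x, he, sub_self]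
        have h3 : b + algebraMap D B (d x) - algebraMap D B e = b + algebraMap D B (d x - e) := by
          rw [map_sub]; ring
        rw [h3]
        exact add_mem hb' (Ideal.mem_map_of_mem _ h2)
    · intro c
      refine ⟨algebraMap D B (κ c), (hconst c).symm, fun e he => ?_⟩
      rw [← map_sub]
      apply Ideal.mem_map_of_mem
      rw [RingHom.mem_ker, map_sub, hκ, he, sub_self]
    · rintro x y - - ⟨b, hb, hb'⟩ ⟨c, hc, hc'⟩
      refine ⟨b + c, by rw [map_add, ← hb, ← hc]; rfl, fun e he => ?_⟩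
      have h2 : d x + d y - e ∈ RingHom.ker σs := by
        rw [RingHom.mem_ker, map_sub, map_add, ← hdt x, ← hdt y, ← he, map_add, sub_self]
      have h3 : b + c - algebraMap D B e = (b - algebraMap D B (d x)) + (c - algebraMap D B (d y)) +
          algebraMap D B (d x + d y - e) := by
        simp only [map_sub, map_add]; ring
      rw [h3]
      exact add_mem (add_mem (hb' _ (hdt x)) (hc' _ (hdt y))) (Ideal.mem_map_of_mem _ h2)
    · rintro x y - - ⟨b, hb, hb'⟩ ⟨c, hc, hc'⟩
      refine ⟨b * c, by rw [map_mul, ← hb, ← hc]; rfl, fun e he => ?_⟩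
      have h2 : d x * d y - e ∈ RingHom.ker σs := by
        rw [RingHom.mem_ker, map_sub, map_mul, ← hdt x, ← hdt y, ← he, map_mul, sub_self]
      have h3 : b * c - algebraMap D B e = (b - algebraMap D B (d x)) * c +
          algebraMap D B (d x) * (c - algebraMap D B (d y)) +
          algebraMap D B (d x * d y - e) := by
        simp only [map_sub, map_mul]; ring
      rw [h3]
      exact add_mem (add_mem (Ideal.mul_mem_right _ _ (hb' _ (hdt x)))
        (Ideal.mul_mem_left _ _ (hc' _ (hdt y)))) (Ideal.mem_map_of_mem _ h2)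
  choose g hg hg' using key
  refine ⟨B, ⟨T, rfl⟩,
    { toFun := g
      map_one' := Subtype.ext (by rw [hg, map_one]; rfl)
      map_zero' := Subtype.ext (by rw [hg, map_zero]; rfl)
      map_add' := fun x y => Subtype.ext (by
        change (g (x + y) : C) = (g x : C) + (g y : C)
        rw [hg, hg, hg, map_add])
      map_mul' := fun x y => Subtype.ext (by
        change (g (x * y) : C) = (g x : C) * (g y : C)
        rw [hg, hg, hg, map_mul]) }, hg, hg'⟩

end K582.LocAlg
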