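import Groth.Agent.FlatMor.K596.ApxCpl
import Groth.Agent.S0598
import Groth.Agent.W4c3segrerkempf.K582.LocAlg
import Groth.Agent.W4c3segrerkempf.K582.Charts
import Groth.Prelude.Def_W4c3segrerkempfTub

/-!
# Tubular data are étale local

A tubular datum `(P, π, s, φ)` for `f : Y ⟶ Z` at `y` gives a common étale neighbourhood
`Z ⟵ T ⟶ P` on which the subschemes `Y` of `Z` and `s(Y)` of `P` are compatible.
-/

set_option autoImplicit false
universe u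
open CategoryTheory CategoryTheory.Limits AlgebraicGeometry TopologicalSpace IsLocalRing
open W4c3segrerkempf Groth.Agent.FlatMor.K596

namespace K582.LocStr

open K582.Charts K582.LocAlg

theorem isGRing_field (k : Type u) [Field k] : CAlg.IsGRing k :=
  have : IsAdicComplete (maximalIdeal k) k := by
    rw [IsLocalRing.maximalIdeal_eq_bot]
    infer_instance
  Groth.Agent.S0598.result k

theorem isGRing_stalk {k : Type u} [Field k] {X : Scheme.{u}} (q : X ⟶ Spec (CommRingCat.of k))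
    [LocallyOfFiniteType q] (x : X) : CAlg.IsGRing (X.presheaf.stalk x) := by
  refine Apx.isGRing_stalk q x ?_
  let _ := (ApxNbhd.toStalk (R := CommRingCat.of k) (q x)).toAlgebra
  have := ApxNbhd.isLocalization_toStalk (R := CommRingCat.of k) (q x)
  exact Groth.Agent.Ega4B.GRingLoc.isGRing_of_isLocalization k _
    (q x).asIdeal.primeCompl (isGRing_field k)


/-- Test-scheme form of the agreement of the two closed subschemes. -/
theorem agree {Y Z P U : Scheme.{u}} (f : Y ⟶ Z) (s : Y ⟶ P) {U₀ : P.Opens} {V₁ : Y.Opens}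
    {W₀ : Z.Opens} (hU₀ : IsAffineOpen U₀) (hV₁ : IsAffineOpen V₁) (hW₀ : IsAffineOpen W₀)
    (hsU : s ⁻¹ᵁ U₀ = V₁) (hfV : V₁ ≤ f ⁻¹ᵁ W₀)
    (hs : Function.Surjective (s.appLE U₀ V₁ hsU.ge).hom)
    {B : CommRingCat.{u}} (α : Γ(P, U₀) ⟶ B) (h : Γ(Z, W₀) ⟶ B)
    (hagree : ∀ x d, (f.appLE W₀ V₁ hfV).hom x = (s.appLE U₀ V₁ hsU.ge).hom d →
      h.hom x - α.hom d ∈ (RingHom.ker (s.appLE U₀ V₁ hsU.ge).hom).map α.hom)
    (f₁ : U ⟶ Spec B) (Q : Scheme.{u}) (g₁ : Q ⟶ U) (g₂ : Q ⟶ Y)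
    (hg : g₁ ≫ f₁ ≫ Spec.map α ≫ hU₀.fromSpec = g₂ ≫ s) :
    g₁ ≫ f₁ ≫ Spec.map h ≫ hW₀.fromSpec = g₂ ≫ f := by
  have hrange : Set.range g₂ ⊆ Set.range hV₁.fromSpec := by
    rintro _ ⟨z, rfl⟩
    rw [hV₁.range_fromSpec, ← hsU]
    change s (g₂ z) ∈ (U₀ : Set P)
    have h1 := congrArg (fun g : Q ⟶ P => g z) hg
    change (g₁ ≫ f₁ ≫ Spec.map α ≫ hU₀.fromSpec) z = s (g₂ z) at h1
    rw [← h1, ← hU₀.range_fromSpec]
    exact ⟨(g₁ ≫ f₁ ≫ Spec.map α) z, by simp⟩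
  let g₂' := IsOpenImmersion.lift hV₁.fromSpec g₂ hrange
  have hg₂' : g₂' ≫ hV₁.fromSpec = g₂ := IsOpenImmersion.lift_fac _ _ _
  let F : Q ⟶ Spec B := g₁ ≫ f₁
  have h1 : F ≫ Spec.map α = g₂' ≫ Spec.map (s.appLE U₀ V₁ hsU.ge) := by
    rw [← cancel_mono hU₀.fromSpec, Category.assoc g₂',
      IsAffineOpen.SpecMap_appLE_fromSpec s hU₀ hV₁ hsU.ge, ← Category.assoc g₂', hg₂', ← hg]
    simp only [F, Category.assoc]
  have h2 : F ≫ Spec.map h = g₂' ≫ Spec.map (f.appLE W₀ V₁ hfV) := by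
    apply glob_injective
    rw [glob_comp, glob_comp]
    have h3 := congrArg glob h1
    rw [glob_comp, glob_comp] at h3
    have h3' : ∀ d, (glob F).hom (α.hom d) = (glob g₂').hom ((s.appLE U₀ V₁ hsU.ge).hom d) :=
      fun d => DFunLike.congr_fun (congrArg CommRingCat.Hom.hom h3) d
    ext x
    change (glob F).hom (h.hom x) = (glob g₂').hom ((f.appLE W₀ V₁ hfV).hom x)
    obtain ⟨d, hd⟩ := hs ((f.appLE W₀ V₁ hfV).hom x)
    have h4 := hagree x d hd.symm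
    have h5 : (RingHom.ker (s.appLE U₀ V₁ hsU.ge).hom).map α.hom ≤ RingHom.ker (glob F).hom := by
      rw [Ideal.map_le_iff_le_comap]
      intro j hj
      rw [Ideal.mem_comap, RingHom.mem_ker, h3', (RingHom.mem_ker).mp hj, map_zero]
    have h6 := h5 h4
    rw [RingHom.mem_ker, map_sub, sub_eq_zero, h3', hd] at h6
    exact h6
  have h7 : g₁ ≫ f₁ ≫ Spec.map h ≫ hW₀.fromSpec = (F ≫ Spec.map h) ≫ hW₀.fromSpec := by
    simp only [F, Category.assoc]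
  rw [h7, h2, Category.assoc, IsAffineOpen.SpecMap_appLE_fromSpec f hW₀ hV₁ hfV,
    ← Category.assoc, hg₂']

theorem surjective_appLE {Y P : Scheme.{u}} (s : Y ⟶ P) (π : P ⟶ Y) (sec : s ≫ π = 𝟙 Y)
    (U₀ : P.Opens) (V₁ : Y.Opens) (hsU : V₁ ≤ s ⁻¹ᵁ U₀) (hUV : U₀ ≤ π ⁻¹ᵁ V₁) :
    Function.Surjective (s.appLE U₀ V₁ hsU).hom := by
  intro r
  refine ⟨(π.appLE V₁ U₀ hUV).hom r, ?_⟩
  have h1 := Scheme.Hom.appLE_comp_appLE s π V₁ U₀ V₁ hUV hsU
  have h2 : ∀ (g : Y ⟶ Y) (hg : g = 𝟙 Y) (e), g.appLE V₁ V₁ e = 𝟙 _ := by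
    rintro g rfl e
    simp only [Scheme.Hom.appLE, Scheme.Hom.id_app]
    exact (Category.id_comp (Y.presheaf.map (homOfLE e).op)).trans (Y.presheaf.map_id _)
  rw [h2 _ sec] at h1
  exact DFunLike.congr_fun (congrArg CommRingCat.Hom.hom h1) r

/-- `toStalk` on an affine chart. -/
theorem germ_appLE_top {k : Type u} [Field k] {X : Scheme.{u}} (q : X ⟶ Spec (CommRingCat.of k))
    (x : X) (U : X.Opens) (hx : x ∈ U) (e : U ≤ q ⁻¹ᵁ ⊤) (c : k) :
    (X.presheaf.germ U x hx).hom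
      ((q.appLE ⊤ U e).hom ((Scheme.ΓSpecIso (CommRingCat.of k)).inv.hom c)) =
      W4c3segrerkempf.toStalk q x c := by
  unfold W4c3segrerkempf.toStalk
  simp only [Scheme.Hom.appLE, CommRingCat.hom_comp, RingHom.comp_apply]
  exact TopCat.Presheaf.germ_res_apply _ _ _ _ _

end K582.LocStr
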