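import Groth.Agent.FlatMor.K596.ApxCpl
import Groth.Agent.S0598
import Groth.Agent.W4c3segrerkempf.K582.LocStr

set_option autoImplicit false
universe u
open CategoryTheory CategoryTheory.Limits AlgebraicGeometry TopologicalSpace IsLocalRing
open W4c3segrerkempf Groth.Agent.FlatMor.K596

namespace K582.LocStr

open K582.Charts K582.LocAlg

theorem exists_nbhd {k : Type u} [Field k] {Y Z : Scheme.{u}} (qY : Y ⟶ Spec (CommRingCat.of k))
    (qZ : Z ⟶ Spec (CommRingCat.of k)) [LocallyOfFiniteType qY] [LocallyOfFiniteType qZ]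
    (f : Y ⟶ Z) (hf : f ≫ qZ = qY) (y : Y) (dat : TubularDatum k qY qZ f y) :
    ∃ (T : Scheme.{u}) (e : T ⟶ dat.P) (a : T ⟶ Z) (t : T), IsAffine T ∧ Etale e ∧ Etale a ∧
      e t = dat.s y ∧ a ≫ qZ = e ≫ dat.π ≫ qY ∧
      ∀ (Q : Scheme.{u}) (g₁ : Q ⟶ T) (g₂ : Q ⟶ Y), g₁ ≫ e = g₂ ≫ dat.s → g₁ ≫ a = g₂ ≫ f := by
  obtain ⟨P, π, hsm, s, sec, φ, map_const, compat⟩ := dat
  dsimp only at *
  obtain ⟨_, ⟨W₀, hW₀, rfl⟩, hzW, -⟩ :=
    Z.isBasis_affineOpens.exists_subset_of_mem_open (Set.mem_univ (f y)) isOpen_univ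
  obtain ⟨U₀, V₁, hU₀, hV₁, hsy, hyV, hsU, hUV, hVW⟩ := exists_charts π s sec y (f ⁻¹ᵁ W₀) hzW
  have hP : LocallyOfFiniteType (π ≫ qY) := inferInstance
  have hPN : IsLocallyNoetherian P := LocallyOfFiniteType.isLocallyNoetherian (π ≫ qY)
  have hZN : IsLocallyNoetherian Z := LocallyOfFiniteType.isLocallyNoetherian qZ
  have hDN : IsNoetherianRing Γ(P, U₀) := IsLocallyNoetherian.component_noetherian ⟨U₀, hU₀⟩
  have hON : IsNoetherianRing (P.presheaf.stalk (s y)) := inferInstance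
  have hON' : IsNoetherianRing (Z.presheaf.stalk (f y)) := inferInstance
  let C := AdicCompletion (maximalIdeal (P.presheaf.stalk (s y))) (P.presheaf.stalk (s y))
  have hCN : IsNoetherianRing C := ApxCpl.isNoetherianRing_cpl (P.presheaf.stalk (s y))
  let δ : Γ(P, U₀) →+* C := (algebraMap (P.presheaf.stalk (s y)) C).comp
    (P.presheaf.germ U₀ (s y) hsy).hom
  let ζ : Γ(Z, W₀) →+* C := φ.toRingHom.comp
    ((algebraMap (Z.presheaf.stalk (f y)) (cpl Z (f y))).comp (Z.presheaf.germ W₀ (f y) hzW).hom)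
  let _ : Algebra Γ(P, U₀) C := δ.toAlgebra
  have heZ : W₀ ≤ qZ ⁻¹ᵁ ⊤ := le_top
  have heP : U₀ ≤ (π ≫ qY) ⁻¹ᵁ ⊤ := le_top
  let _ : Algebra Γ(Spec (CommRingCat.of k), ⊤) Γ(Z, W₀) := (qZ.appLE ⊤ W₀ heZ).hom.toAlgebra
  have hft : Algebra.FiniteType Γ(Spec (CommRingCat.of k), ⊤) Γ(Z, W₀) :=
    qZ.finiteType_appLE (isAffineOpen_top _) hW₀ heZ
  let κ : Γ(Spec (CommRingCat.of k), ⊤) →+* Γ(P, U₀) := ((π ≫ qY).appLE ⊤ U₀ heP).hom
  let σf : Γ(Z, W₀) →+* Γ(Y, V₁) := (f.appLE W₀ V₁ hVW).hom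
  let σs : Γ(P, U₀) →+* Γ(Y, V₁) := (s.appLE U₀ V₁ hsU.ge).hom
  have hs : Function.Surjective σs := surjective_appLE s π sec U₀ V₁ hsU.ge hUV
  have hκ : ∀ c, σs (κ c) = σf (algebraMap Γ(Spec (CommRingCat.of k), ⊤) Γ(Z, W₀) c) := by
    intro c
    have h1 := Scheme.Hom.appLE_comp_appLE s (π ≫ qY) ⊤ U₀ V₁ heP hsU.ge
    have h2 := Scheme.Hom.appLE_comp_appLE f qZ ⊤ W₀ V₁ heZ hVW
    have h3 : s ≫ π ≫ qY = f ≫ qZ := by rw [← Category.assoc, sec, Category.id_comp, hf]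
    have h4 : ∀ (g g' : Y ⟶ Spec (CommRingCat.of k)) (h : g = g') (e : V₁ ≤ g ⁻¹ᵁ ⊤)
        (e' : V₁ ≤ g' ⁻¹ᵁ ⊤), g.appLE ⊤ V₁ e = g'.appLE ⊤ V₁ e' := by
      rintro g _ rfl e e'
      rfl
    have h5 := h1.trans ((h4 _ _ h3 _ _).trans h2.symm)
    exact DFunLike.congr_fun (congrArg CommRingCat.Hom.hom h5) c
  have hconst : ∀ c, ζ (algebraMap Γ(Spec (CommRingCat.of k), ⊤) Γ(Z, W₀) c) =
      algebraMap Γ(P, U₀) C (κ c) := by
    intro c
    obtain ⟨c, rfl⟩ : ∃ c' : k, (Scheme.ΓSpecIso (CommRingCat.of k)).inv.hom c' = c :=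
      ⟨(Scheme.ΓSpecIso (CommRingCat.of k)).hom.hom c, by
        have := (Scheme.ΓSpecIso (CommRingCat.of k)).hom_inv_id
        exact DFunLike.congr_fun (congrArg CommRingCat.Hom.hom this) c⟩
    have h1 := germ_appLE_top qZ (f y) W₀ hzW heZ c
    have h2 := germ_appLE_top (π ≫ qY) (s y) U₀ hsy heP c
    have h3 := map_const c
    change φ (algebraMap _ _ ((Z.presheaf.germ W₀ (f y) hzW).hom ((qZ.appLE ⊤ W₀ heZ).hom _))) =
      algebraMap (P.presheaf.stalk (s y)) C ((P.presheaf.germ U₀ (s y) hsy).hom (((π ≫ qY).appLE ⊤ U₀ heP).hom _))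
    rw [h1, h2]
    exact h3
  have hcompat : ∀ x d, σf x = σs d →
      ζ x - algebraMap Γ(P, U₀) C d ∈ (RingHom.ker σs).map (algebraMap Γ(P, U₀) C) := by
    intro x d hxd
    have h1 := compat ((Z.presheaf.germ W₀ (f y) hzW).hom x) ((P.presheaf.germ U₀ (s y) hsy).hom d) (by
      have h2 := germ_stalkMap_appLE f y W₀ V₁ hVW hyV x
      have h3 := germ_stalkMap_appLE s y U₀ V₁ hsU.ge hyV d
      exact h2.trans ((congrArg _ hxd).trans h3.symm))
    have h4 := Ideal.map_mono (f := algebraMap (P.presheaf.stalk (s y)) C)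
      (ker_stalkMap_le s π sec y U₀ V₁ hU₀ hV₁ hyV hsU.ge hUV)
    rw [Ideal.map_map] at h4
    exact h4 h1
  obtain ⟨B, hBfg, h, hh, hagree⟩ := exists_subalgebra (k := Γ(Spec (CommRingCat.of k), ⊤))
    ζ σf σs hs κ hκ hconst hcompat
  have hBft : Algebra.FiniteType Γ(P, U₀) B := B.fg_iff_finiteType.mp hBfg
  let α : Γ(P, U₀) ⟶ CommRingCat.of B := CommRingCat.ofHom (algebraMap Γ(P, U₀) B)
  let q : Spec (CommRingCat.of B) ⟶ P := Spec.map α ≫ hU₀.fromSpec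
  have hqft : LocallyOfFiniteType q := by
    have : LocallyOfFiniteType (Spec.map α) :=
      HasRingHomProperty.Spec_iff.mpr (RingHom.finiteType_algebraMap.mpr hBft)
    infer_instance
  let γ : CommRingCat.of B ⟶ CommRingCat.of C := CommRingCat.ofHom (B.val : B →+* C)
  have hCL : IsLocalRing C := inferInstance
  let c : Spec (CommRingCat.of C) ⟶ Spec (CommRingCat.of B) := Spec.map γ
  let w : Spec (CommRingCat.of B) := c (closedPoint C)
  let φ' : (Spec (CommRingCat.of B)).presheaf.stalk w →+* C := (Scheme.stalkClosedPointTo c).hom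
  have hφ'l : IsLocalHom φ' := Scheme.isLocalHom_stalkClosedPointTo' c
  have hφ'c : Spec.map (CommRingCat.ofHom φ') ≫ (Spec (CommRingCat.of B)).fromSpecStalk w = c :=
    Scheme.Spec_stalkClosedPointTo_fromSpecStalk c
  have hθD : Spec.map (CommRingCat.ofHom (algebraMap (P.presheaf.stalk (s y)) C)) ≫
      P.fromSpecStalk (s y) = Spec.map (CommRingCat.ofHom δ) ≫ hU₀.fromSpec := by
    rw [← hU₀.fromSpecStalk_eq_fromSpecStalk hsy, IsAffineOpen.fromSpecStalk, ← Spec.map_comp_assoc]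
    rfl
  have hαγ : α ≫ γ = CommRingCat.ofHom δ := rfl
  have hφ'q : Spec.map (CommRingCat.ofHom φ') ≫ (Spec (CommRingCat.of B)).fromSpecStalk w ≫ q =
      Spec.map (CommRingCat.ofHom (algebraMap (P.presheaf.stalk (s y)) C)) ≫
        P.fromSpecStalk (s y) ≫ 𝟙 P := by
    rw [Category.comp_id, hθD, ← hαγ, Spec.map_comp, Category.assoc, ← reassoc_of% hφ'c]
  obtain ⟨U, e, f₁, v, ψ, hCL', hEt, hfq, hfv, hev, hψ, hψe, hecpl, happ⟩ :=
    ApxCpl.exists_nbhd (𝟙 P) q (s y) w (isGRing_stalk (π ≫ qY) _) φ' hφ'q (fun b hb => by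
      rw [← AdicCompletion.maximalIdeal_eq_map]
      exact fun hu => hb (isUnit_of_map_unit φ' b hu)) 2 (by norm_num)
  -- the map to `Z`
  let hc : Γ(Z, W₀) ⟶ CommRingCat.of B := CommRingCat.ofHom h
  let a : U ⟶ Z := f₁ ≫ Spec.map hc ≫ hW₀.fromSpec
  have haq : a ≫ qZ = e ≫ π ≫ qY := by
    have h1 : Spec.map hc ≫ Spec.map (qZ.appLE ⊤ W₀ heZ) =
        Spec.map α ≫ Spec.map ((π ≫ qY).appLE ⊤ U₀ heP) := by
      rw [← Spec.map_comp, ← Spec.map_comp]
      congr 1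
      refine CommRingCat.hom_ext (RingHom.ext fun c => Subtype.ext ?_)
      exact (hh _).trans (hconst c)
    have h2 := IsAffineOpen.SpecMap_appLE_fromSpec qZ (isAffineOpen_top _) hW₀ heZ
    have h3 := IsAffineOpen.SpecMap_appLE_fromSpec (π ≫ qY) (isAffineOpen_top _) hU₀ heP
    calc a ≫ qZ = f₁ ≫ Spec.map hc ≫ hW₀.fromSpec ≫ qZ := by simp only [a, Category.assoc]
      _ = f₁ ≫ (Spec.map hc ≫ Spec.map (qZ.appLE ⊤ W₀ heZ)) ≫ (isAffineOpen_top _).fromSpec := by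
        rw [← h2, Category.assoc]
      _ = f₁ ≫ Spec.map α ≫ hU₀.fromSpec ≫ π ≫ qY := by rw [h1, Category.assoc, h3]
      _ = (f₁ ≫ q) ≫ π ≫ qY := by simp only [q, Category.assoc]
      _ = e ≫ π ≫ qY := by rw [hfq, Category.comp_id]
  have haft : LocallyOfFiniteType a := by
    have h1 : LocallyOfFiniteType (a ≫ qZ) := by rw [haq]; infer_instance
    exact locallyOfFiniteType_of_comp a qZ
  have hstar : ∀ (Q : Scheme.{u}) (g₁ : Q ⟶ U) (g₂ : Q ⟶ Y), g₁ ≫ e = g₂ ≫ s →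
      g₁ ≫ a = g₂ ≫ f := by
    intro Q g₁ g₂ hg
    refine agree f s hU₀ hV₁ hW₀ hsU hVW hs α hc (fun x d hxd => hagree x d hxd) f₁ Q g₁ g₂ ?_
    have hfq' : f₁ ≫ Spec.map α ≫ hU₀.fromSpec = e := hfq.trans (Category.comp_id e)
    rw [hfq', hg]
  -- congruence on the stalk of `Z`
  have key : ∀ b : B, (ψ.comp ((f₁.stalkMap v).hom.comp
      ((Spec (CommRingCat.of B)).presheaf.stalkCongr (.of_eq hfv)).inv.hom))
        (ApxNbhd.toStalk w b) - (b : C) ∈ maximalIdeal C ^ 2 := by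
    intro b
    have h1 := happ hfv (ApxNbhd.toStalk w b)
    have h2 : φ'.comp (ApxNbhd.toStalk w) = (B.val : B →+* C) := by
      rw [ApxNbhd.fromSpecStalk_Spec, ← Spec.map_comp] at hφ'c
      exact congrArg CommRingCat.Hom.hom (Spec.map_injective hφ'c)
    have h3 : φ' (ApxNbhd.toStalk w b) = (b : C) := DFunLike.congr_fun h2 b
    rw [h3] at h1
    exact h1
  let χB : B →+* C := (ψ.comp ((f₁.stalkMap v).hom.comp
      ((Spec (CommRingCat.of B)).presheaf.stalkCongr (.of_eq hfv)).inv.hom)).comp (ApxNbhd.toStalk w)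
  have hχB : Spec.map (CommRingCat.ofHom χB) =
      Spec.map (CommRingCat.ofHom ψ) ≫ U.fromSpecStalk v ≫ f₁ := by
    rw [← Scheme.SpecMap_stalkMap_fromSpecStalk f₁, ← ApxNbhd.stalkCongr_fromSpecStalk (.of_eq hfv),
      ApxNbhd.fromSpecStalk_Spec]
    simp only [← Spec.map_comp]
    rfl
  let χ : Γ(Z, W₀) →+* C := χB.comp h
  have hχζ : ∀ x, χ x - ζ x ∈ maximalIdeal C ^ 2 := by
    intro x
    have := key (h x)
    rw [hh x] at this
    exact this
  have hψa : Spec.map (CommRingCat.ofHom ψ) ≫ U.fromSpecStalk v ≫ a =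
      Spec.map (CommRingCat.ofHom χ) ≫ hW₀.fromSpec := by
    have h1 : Spec.map (CommRingCat.ofHom χ) = Spec.map (CommRingCat.ofHom χB) ≫ Spec.map hc := by
      rw [← Spec.map_comp]
      rfl
    rw [h1, hχB]
    simp only [a, Category.assoc]
  let Φ : Z.presheaf.stalk (f y) →+* C := φ.toRingHom.comp
    (algebraMap (Z.presheaf.stalk (f y)) (cpl Z (f y)))
  have hΦ : IsCplMap Φ := IsCplMap.algebraMap_cpl.comp_ringEquiv φ
  have hΦζ : Spec.map (CommRingCat.ofHom Φ) ≫ Z.fromSpecStalk (f y) =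
      Spec.map (CommRingCat.ofHom ζ) ≫ hW₀.fromSpec := by
    rw [← hW₀.fromSpecStalk_eq_fromSpecStalk hzW, IsAffineOpen.fromSpecStalk, ← Spec.map_comp_assoc]
    rfl
  have hψl : IsLocalHom ψ := hψ.isLocalHom
  have hΦl : IsLocalHom Φ := hΦ.isLocalHom
  have hav : a v = f y := by
    have h1 := ApxNbhd.closedPoint_map v ψ
    have h2 := ApxNbhd.closedPoint_map (f y) Φ
    have h3 : a v = (Spec.map (CommRingCat.ofHom χ) ≫ hW₀.fromSpec) (closedPoint C) := by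
      rw [← hψa, ← Category.assoc]
      exact (congrArg (fun z => a z) h1).symm
    rw [h3, ← h2, hΦζ, Scheme.Hom.comp_apply, Scheme.Hom.comp_apply]
    congr 1
    refine PrimeSpectrum.ext ?_
    ext b
    change χ b ∈ maximalIdeal C ↔ ζ b ∈ maximalIdeal C
    have h2 := Ideal.pow_le_self two_ne_zero (hχζ b)
    constructor
    · intro h3
      have := Ideal.sub_mem _ h3 h2
      rwa [sub_sub_cancel] at this
    · intro h3
      have := Ideal.add_mem _ h2 h3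
      rwa [sub_add_cancel] at this
  have hΨ : IsCplMap (ψ.comp ((a.stalkMap v).hom.comp
      (Z.presheaf.stalkCongr (Inseparable.of_eq hav)).inv.hom)) := by
    refine IsCplMap.of_congr hΦ (fun b => ?_)
    let _ : Algebra Γ(Z, W₀) (Z.presheaf.stalk (f y)) := (Z.presheaf.germ W₀ (f y) hzW).hom.toAlgebra
    have hlocZ : IsLocalization.AtPrime (Z.presheaf.stalk (f y)) (hW₀.primeIdealOf ⟨f y, hzW⟩).asIdeal :=
      hW₀.isLocalization_stalk ⟨f y, hzW⟩
    have key2 : (ψ.comp ((a.stalkMap v).hom.comp (Z.presheaf.stalkCongr (.of_eq hav)).inv.hom)).comp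
        (Z.presheaf.germ W₀ (f y) hzW).hom = χ := by
      have h1 : Z.presheaf.germ W₀ (f y) hzW ≫ (Z.presheaf.stalkCongr (.of_eq hav)).inv ≫
          a.stalkMap v ≫ CommRingCat.ofHom ψ = CommRingCat.ofHom χ := by
        apply Spec.map_injective
        rw [← cancel_mono hW₀.fromSpec, ← hψa,
          ← Scheme.SpecMap_stalkMap_fromSpecStalk a, ← ApxNbhd.stalkCongr_fromSpecStalk (.of_eq hav),
          ← hW₀.fromSpecStalk_eq_fromSpecStalk hzW]
        simp only [Spec.map_comp, Category.assoc, IsAffineOpen.fromSpecStalk]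
        rfl
      exact congrArg CommRingCat.Hom.hom h1
    exact ApxNbhd.sub_mem_of_isLocalization (A := Γ(Z, W₀)) (O := Z.presheaf.stalk (f y))
      (hW₀.primeIdealOf ⟨f y, hzW⟩).asIdeal.primeCompl (maximalIdeal C ^ 2) _ Φ
      (fun x => by
        have h3 := DFunLike.congr_fun key2 x
        have h4 := hχζ x
        rw [← h3] at h4
        exact h4) b
  have hacpl : IsCplMap (a.stalkMap v).hom :=
    IsCplMap.of_comp (ApxCpl.isCplMap_of_congr_inv a v hav ψ hΨ) hψ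
  obtain ⟨W, hvW, hWet⟩ := ApxCpl.exists_open_etale a v hacpl
  obtain ⟨T, hT, hvT, hTW⟩ : ∃ T : U.Opens, IsAffineOpen T ∧ v ∈ T ∧ T ≤ W := by
    obtain ⟨_, ⟨T, hT, rfl⟩, hvT, hTW⟩ :=
      U.isBasis_affineOpens.exists_subset_of_mem_open (show v ∈ (W : Set U) from hvW) W.2
    exact ⟨T, hT, hvT, hTW⟩
  have hT' : IsAffine T := hT
  refine ⟨T, T.ι ≫ e, T.ι ≫ a, ⟨v, hvT⟩, hT', inferInstance, ?_, hev, ?_, ?_⟩
  · have h1 : T.ι = U.homOfLE hTW ≫ W.ι := (U.homOfLE_ι hTW).symm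
    rw [h1, Category.assoc]
    infer_instance
  · rw [Category.assoc, haq, Category.assoc]
  · intro Q g₁ g₂ hg
    have := hstar Q (g₁ ≫ T.ι) g₂ (by rw [Category.assoc]; exact hg)
    rw [← this, Category.assoc]

end K582.LocStr
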