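import Groth.Agent.AlgSp.K597.EffDesc
import Groth.Agent.AlgSp.K595.DescInst
import Groth.Agent.S0115
import Groth.Agent.S1628
import Groth.Agent.W4c3segrerkempf.K582.LocNbhd

/-!
# The global geometry

Two morphisms to `Y` are étale-locally isomorphic over `Y`; transfer of properties; and the resolutions.
-/

set_option autoImplicit false
universe u
open CategoryTheory CategoryTheory.Limits AlgebraicGeometry TopologicalSpace
open W4c3segrerkempf

namespace K582.Geom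

/-- `h` and `ρ` are étale-locally isomorphic over `Y` -/
def LocIso {X R Y : Scheme.{u}} (h : X ⟶ Y) (ρ : R ⟶ Y) : Prop :=
  ∀ y : Y, ∃ (E N : Scheme.{u}) (ε : E ⟶ Y) (m : N ⟶ E) (n₁ : N ⟶ X) (n₂ : N ⟶ R),
    Etale ε ∧ y ∈ Set.range ε ∧ IsPullback n₁ m h ε ∧ IsPullback n₂ m ρ ε

theorem LocIso.refl {X Y : Scheme.{u}} (h : X ⟶ Y) : LocIso h h := fun y =>
  ⟨Y, X, 𝟙 Y, h, 𝟙 X, 𝟙 X, inferInstance, ⟨y, rfl⟩, IsPullback.of_horiz_isIso ⟨by simp⟩,
    IsPullback.of_horiz_isIso ⟨by simp⟩⟩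

theorem LocIso.baseChange {X R Y X₁ R₁ Y₁ : Scheme.{u}} {h : X ⟶ Y} {ρ : R ⟶ Y} (H : LocIso h ρ)
    {g : Y₁ ⟶ Y} {h₁ : X₁ ⟶ Y₁} {ρ₁ : R₁ ⟶ Y₁} {x : X₁ ⟶ X} {r : R₁ ⟶ R}
    (sqx : IsPullback x h₁ h g) (sqr : IsPullback r ρ₁ ρ g) : LocIso h₁ ρ₁ := by
  intro y₁
  obtain ⟨E, N, ε, m, n₁, n₂, hε, ⟨e, he⟩, sq₁, sq₂⟩ := H (g y₁)
  obtain ⟨e₁, he₁, he₁'⟩ := Scheme.Pullback.exists_preimage_pullback e y₁ he
  have sqE : IsPullback (pullback.fst ε g) (pullback.snd ε g) ε g := IsPullback.of_hasPullback ε g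
  have sqN : IsPullback (pullback.fst m (pullback.fst ε g)) (pullback.snd m (pullback.fst ε g)) m
      (pullback.fst ε g) := IsPullback.of_hasPullback _ _
  have q₁ := sqN.paste_horiz sq₁
  have q₂ := sqN.paste_horiz sq₂
  rw [sqE.w] at q₁ q₂
  refine ⟨pullback ε g, pullback m (pullback.fst ε g), pullback.snd ε g,
    pullback.snd m (pullback.fst ε g),
    sqx.lift (pullback.fst _ _ ≫ n₁) (pullback.snd _ _ ≫ pullback.snd ε g)
      (by rw [q₁.w, Category.assoc]),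
    sqr.lift (pullback.fst _ _ ≫ n₂) (pullback.snd _ _ ≫ pullback.snd ε g)
      (by rw [q₂.w, Category.assoc]),
    inferInstance, ⟨e₁, he₁'⟩, ?_, ?_⟩
  · exact IsPullback.of_right (t := sqx) (by rw [sqx.lift_fst]; exact q₁) (sqx.lift_snd _ _ _)
  · exact IsPullback.of_right (t := sqr) (by rw [sqr.lift_fst]; exact q₂) (sqr.lift_snd _ _ _)

theorem LocIso.prop {X R Y : Scheme.{u}} {h : X ⟶ Y} {ρ : R ⟶ Y} (H : LocIso h ρ)
    (P : MorphismProperty Scheme.{u}) [IsZariskiLocalAtTarget P] [P.IsStableUnderBaseChange]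
    [P.DescendsAlong K597.EffDesc.Fppf.{u}] (hP : P ρ) : P h := by
  refine K597.EffDesc.prop_of_etale_local P h fun y => ?_
  obtain ⟨E, N, ε, m, n₁, n₂, hε, he, sq₁, sq₂⟩ := H y
  exact ⟨E, ε, N, n₁, m, hε, he, sq₁, P.of_isPullback sq₂ hP⟩

theorem LocIso.isIso_restrict {X R Y : Scheme.{u}} {h : X ⟶ Y} {ρ : R ⟶ Y} (H : LocIso h ρ)
    (U : Y.Opens) (hU : IsIso (ρ ∣_ U)) : IsIso (h ∣_ U) := by
  have := K595.DescInst.isomorphisms.{u}
  exact (H.baseChange (isPullback_morphismRestrict h U).flip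
    (isPullback_morphismRestrict ρ U).flip).prop (MorphismProperty.isomorphisms Scheme.{u}) hU

theorem isReduced_of_smooth {k : Type u} [Field k] {X : Scheme.{u}}
    (f : X ⟶ Spec (CommRingCat.of k)) [Smooth f] : IsReduced X := by
  have : ∀ x : X, _root_.IsReduced (X.presheaf.stalk x) := fun x =>
    Groth.Agent.S1628.isReduced_stalk_of_smooth f x
  exact isReduced_of_isReduced_stalk X

theorem LocIso.smooth {k : Type u} [Field k] {X R Y : Scheme.{u}} {h : X ⟶ Y} {ρ : R ⟶ Y}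
    (H : LocIso h ρ) (q : Y ⟶ Spec (CommRingCat.of k)) [LocallyOfFiniteType h]
    [LocallyOfFiniteType q] (hs : Smooth (ρ ≫ q)) : Smooth (h ≫ q) := by
  have key : ∀ x : X, ∃ O : X.Opens, x ∈ O ∧ Smooth (O.ι ≫ h ≫ q) := by
    intro x
    obtain ⟨E, N, ε, m, n₁, n₂, hε, ⟨e, he⟩, sq₁, sq₂⟩ := H (h x)
    have hn₁ : Etale n₁ := MorphismProperty.of_isPullback sq₁.flip hε
    have hn₂ : Etale n₂ := MorphismProperty.of_isPullback sq₂.flip hε
    obtain ⟨n, hn, -⟩ := Scheme.exists_preimage_of_isPullback sq₁ x e he.symm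
    let O : X.Opens := ⟨Set.range n₁, n₁.isOpenMap.isOpen_range⟩
    let l : N ⟶ O.toScheme := IsOpenImmersion.lift O.ι n₁ (by simp [O])
    have hl : l ≫ O.ι = n₁ := IsOpenImmersion.lift_fac _ _ _
    have hle : Etale l := by
      have : Etale (l ≫ O.ι) := by rw [hl]; exact hn₁
      exact Etale.of_comp l O.ι
    have hls : Surjective l := by
      constructor
      rintro ⟨_, x, rfl⟩
      refine ⟨x, O.ι.isOpenEmbedding.injective ?_⟩
      rw [← Scheme.Hom.comp_apply, hl]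
      rfl
    have h1 : Smooth (l ≫ O.ι ≫ h ≫ q) := by
      rw [reassoc_of% hl, reassoc_of% sq₁.w, ← reassoc_of% sq₂.w]
      infer_instance
    have hN : IsLocallyNoetherian (Spec (CommRingCat.of k)) := inferInstance
    have h2 : LocallyOfFinitePresentation (O.ι ≫ h ≫ q) := inferInstance
    exact ⟨O, ⟨n, hn⟩, Groth.Agent.S0115.smooth_of_comp_field k l (O.ι ≫ h ≫ q)⟩
  choose O hxO hO using key
  exact IsZariskiLocalAtSource.of_iSup_eq_top O
    (top_le_iff.mp fun x _ => Opens.mem_iSup.mpr ⟨x, hxO x⟩) hO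

theorem LocIso.dense {X R Y : Scheme.{u}} {h : X ⟶ Y} {ρ : R ⟶ Y} (H : LocIso h ρ) (U : Y.Opens)
    (hU : Dense (ρ ⁻¹ᵁ U : Set R)) : Dense (h ⁻¹ᵁ U : Set X) := by
  rw [dense_iff_inter_open]
  rintro O hO ⟨x, hx⟩
  obtain ⟨E, N, ε, m, n₁, n₂, hε, ⟨e, he⟩, sq₁, sq₂⟩ := H (h x)
  have hn₂ : Etale n₂ := MorphismProperty.of_isPullback sq₂.flip hε
  obtain ⟨n, hn, -⟩ := Scheme.exists_preimage_of_isPullback sq₁ x e he.symm
  obtain ⟨_, ⟨n', hn', rfl⟩, hn''⟩ := hU.inter_open_nonempty _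
    (n₂.isOpenMap _ (hO.preimage n₁.continuous)) ⟨n₂ n, n, by rwa [Set.mem_preimage, hn], rfl⟩
  refine ⟨n₁ n', hn', ?_⟩
  change h (n₁ n') ∈ U
  have h1 : ρ (n₂ n') ∈ U := hn''
  rwa [← Scheme.Hom.comp_apply, sq₁.w, ← sq₂.w, Scheme.Hom.comp_apply]

/-- an open dense irreducible subset -/
theorem irreducibleSpace {X Y : Scheme.{u}} [IsIntegral Y] (h : X ⟶ Y) (U : Y.Opens)
    (hne : (U : Set Y).Nonempty) (hU : IsIso (h ∣_ U)) (hd : Dense (h ⁻¹ᵁ U : Set X)) :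
    IrreducibleSpace X := by
  have hne' : Nonempty U := ⟨⟨hne.some, hne.some_mem⟩⟩
  have h1 : IsIntegral (U : Scheme.{u}) := inferInstance
  have h2 : IsIntegral (h ⁻¹ᵁ U : Scheme.{u}) := IsIntegral.of_isIso (inv (h ∣_ U))
  have h3 : IsIrreducible (h ⁻¹ᵁ U : Set X) := by
    have : IrreducibleSpace (h ⁻¹ᵁ U : Scheme.{u}) := inferInstance
    have := this.isIrreducible_univ.image (h ⁻¹ᵁ U).ι (h ⁻¹ᵁ U).ι.continuous.continuousOn
    rwa [Set.image_univ, Scheme.Opens.range_ι] at this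
  have h4 := h3.closure
  rw [hd.closure_eq] at h4
  exact irreducibleSpace_def X |>.mpr h4

theorem main (k : Type u) [Field k]
    (R : ∀ (X : Scheme.{u}), (X ⟶ Spec (CommRingCat.of k)) → Scheme.{u})
    (ρ : ∀ (X : Scheme.{u}) (q : X ⟶ Spec (CommRingCat.of k)), R X q ⟶ X)
    (hR₃ : ∀ (X X' : Scheme.{u}) (q : X ⟶ Spec (CommRingCat.of k)) (p : X' ⟶ X), LocallyOfFiniteType q → QuasiCompact q →
      Smooth p → QuasiCompact p →
      ∃ r : R X' (p ≫ q) ⟶ R X q, IsPullback r (ρ X' (p ≫ q)) (ρ X q) p)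
    (Y Z : Scheme.{u}) (qY : Y ⟶ Spec (CommRingCat.of k)) (qZ : Z ⟶ Spec (CommRingCat.of k))
    [LocallyOfFiniteType qY] [QuasiCompact qY] [LocallyOfFiniteType qZ] [QuasiCompact qZ]
    (f : Y ⟶ Z) (hf : f ≫ qZ = qY)
    (htub : ∀ y : Y, IsClosed ({y} : Set Y) → Nonempty (TubularDatum k qY qZ f y))
    {Y' : Scheme.{u}} (f' : Y' ⟶ R Z qZ) (h : Y' ⟶ Y) (sq : IsPullback f' h (ρ Z qZ) f) :
    LocIso h (ρ Y qY) := by
  have hcY : CompactSpace Y := QuasiCompact.compactSpace_of_compactSpace qY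
  intro y₀
  obtain ⟨y, hy₀, hy⟩ := isClosed_closure.exists_closed_singleton
    (⟨y₀, subset_closure rfl⟩ : (closure ({y₀} : Set Y)).Nonempty)
  obtain ⟨dat⟩ := htub y hy
  obtain ⟨T, e, a, t, hTa, he, ha, ht, haq, H⟩ := LocStr.exists_nbhd qY qZ f hf y dat
  have hsm : Smooth dat.π := dat.smooth
  have hTN : IsLocallyNoetherian T := LocallyOfFiniteType.isLocallyNoetherian (a ≫ qZ)
  have hTN' : IsNoetherian T := { }
  have hqa : QuasiCompact a := inferInstance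
  have hqc : QuasiCompact (e ≫ dat.π) := inferInstance
  obtain ⟨r₁, sq₁⟩ := hR₃ Z T qZ a inferInstance inferInstance inferInstance hqa
  obtain ⟨r₂, sq₂⟩ := hR₃ Y T qY (e ≫ dat.π) inferInstance inferInstance inferInstance hqc
  have h0 : (e ≫ dat.π) ≫ qY = a ≫ qZ := by rw [Category.assoc, haq]
  generalize hq₁ : a ≫ qZ = q₁ at *
  generalize hq₂ : (e ≫ dat.π) ≫ qY = q₂ at *
  subst h0
  have sqE : IsPullback (pullback.fst e dat.s) (pullback.snd e dat.s) e dat.s :=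
    IsPullback.of_hasPullback e dat.s
  have sqN : IsPullback (pullback.fst (ρ T q₂) (pullback.fst e dat.s))
      (pullback.snd (ρ T q₂) (pullback.fst e dat.s)) (ρ T q₂) (pullback.fst e dat.s) :=
    IsPullback.of_hasPullback _ _
  have p₁ := sqN.paste_horiz sq₁
  have p₂ := sqN.paste_horiz sq₂
  have h1 : pullback.fst e dat.s ≫ a = pullback.snd e dat.s ≫ f := H _ _ _ sqE.w
  have h2 : pullback.fst e dat.s ≫ e ≫ dat.π = pullback.snd e dat.s := by
    rw [reassoc_of% sqE.w, dat.sec, Category.comp_id]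
  rw [h1] at p₁
  rw [h2] at p₂
  obtain ⟨z, -, hz⟩ := Scheme.Pullback.exists_preimage_pullback t y ht
  refine ⟨_, _, pullback.snd e dat.s, pullback.snd (ρ T q₂) (pullback.fst e dat.s),
    sq.lift (pullback.fst _ _ ≫ r₁) (pullback.snd _ _ ≫ pullback.snd e dat.s)
      (by rw [p₁.w, Category.assoc]), _, inferInstance, ?_, ?_, p₂⟩
  · have h3 : y₀ ⤳ y := specializes_iff_mem_closure.mpr hy₀
    exact h3.mem_open (pullback.snd e dat.s).isOpenMap.isOpen_range ⟨z, hz⟩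
  · exact IsPullback.of_right (t := sq) (by rw [sq.lift_fst]; exact p₁) (sq.lift_snd _ _ _)

end K582.Geom
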